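import Mathlib
import Cfsg.Agent.Mrg.ParSys.Fam.Rgd
import Cfsg.Agent.H396.Crit
import Cfsg.Agent.H396.Der
import Cfsg.Agent.H396.HasCG
import Cfsg.Agent.H436.Ppd

/-!
# `SQ` from a root group datum by counting fixed points (helper138)

`card_UJ` : `|U_J| = ∏ v ∈ Rt, supp v ⊆ J, wt v`; `sq_of_rgd` : the criterion `der_of_rgd` of helper396 with a primitive
prime divisor `u` of `q ^ d - 1` and a table of supports and lengths.
-/

set_option autoImplicit false
set_option linter.unusedSectionVars false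

namespace Cfsg.Agent.H138.SqBase

open CoxeterSystem Cfsg.Agent.ChevalleyStructure.CoxeterGeom Cfsg.Agent.Tits.Roots Cfsg.Agent.Tits.Core
  Cfsg.Agent.Tits.RootComb Cfsg.Agent.Nodes.Comb Cfsg.Agent.Nodes.Reps Cfsg.Agent.Nodes.BNOf
  Cfsg.Agent.Nodes.StabComb Cfsg.Agent.Nodes.Bruhat Cfsg.Agent.Nodes.LeviDec Cfsg.Agent.Nodes.NormalForm
  Cfsg.Agent.ParSys Cfsg.Agent.ParSys.RootCount Cfsg.Agent.Tits.Exchange
  Cfsg.Agent.Omega.EH3Close.CountU
open Cfsg.Agent.H396 (SQ Der Conn)
open Cfsg.Agent.Omega.EH3.Kf.Lev (CommGen)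

section Count

variable {I W Y : Type*} [Fintype I] [DecidableEq I] [Group W] [Group Y] {M : CoxeterMatrix I}
  {cs : CoxeterSystem M W} {A : I → I → ℤ} {h : IsCartan M A} {p : ℕ} {T : Subgroup Y} {n : I → Y}
  {X : (I → ℤ) → Subgroup Y}

variable (R : RGD cs h p T n X) [Finite W]
variable {Rt : Finset (I → ℤ)} (hR : PosRoots A Rt) {wt : (I → ℤ) → ℕ}
  (hwt : ∀ i, ∀ v ∈ Rt, v ≠ Pi.single i 1 → wt (refl A i v) = wt v)
  (hq : ∀ i, Nat.card (X (sr i)) = wt (Pi.single i 1))

include R hR hwt hq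

/-- **`|U_J|`** -/
theorem card_UJ (J : Set I) [DecidablePred fun v : I → ℤ => ∀ k, k ∉ J → v k = 0] :
    Nat.card (RGD.Sup X (PosJ cs h J)) = ∏ v ∈ Rt.filter (fun v => ∀ k, k ∉ J → v k = 0), wt v := by
  have hL : IsLongest cs J (wJ cs J) := isLongest_wJ cs J
  have h1 : RGD.Inv cs h (wJ cs J)⁻¹ = PosJ cs h J := by
    ext x
    constructor
    · rintro ⟨hx, hx0, h1⟩
      rw [inv_inv] at h1
      rcases mem_PosJ_or_NotJ J hx hx0 with h2 | h2
      · exact h2
      · exfalso
        exact (hx.act _).not_pos_neg (NotJ.act hL.1 h2).2.1 h1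
    · intro hx
      refine ⟨hx.1, hx.2.1, ?_⟩
      rw [inv_inv]
      exact rep_longest_nonpos hL hx
  have h2 : PosRoots.invs h cs Rt (wJ cs J) = Rt.filter (fun v => ∀ k, k ∉ J → v k = 0) := by
    ext v
    rw [PosRoots.mem_invs, Finset.mem_filter]
    constructor
    · rintro ⟨hv, h3⟩
      refine ⟨hv, fun k hk => ?_⟩
      by_contra hcon
      have h4 : rep cs h (wJ cs J) v k = v k := rep_apply_of_mem cs h hL.1 v hk
      have h5 : 0 ≤ v k := hR.pos v hv k
      rcases hR.rep_mem h cs (wJ cs J) v hv with h6 | h6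
      · exact h3 h6
      · have h7 : (0 : ℤ) ≤ -(rep cs h (wJ cs J) v k) := hR.pos _ h6 k
        rw [h4] at h7
        omega
    · rintro ⟨hv, hz⟩
      refine ⟨hv, fun h3 => ?_⟩
      have h4 : rep cs h (wJ cs J) v ≤ 0 := by
        have h5 : ∀ j ∈ J, rep cs h (wJ cs J) (sr j) ≤ 0 := by
          intro j hj
          refine nonpos_of_lt cs h (wJ cs J) j ?_
          have h2 := (hL.2 _ (simple_mem_WJ cs hj)).1
          rw [cs.length_simple] at h2
          omega
        have h6 : v = ∑ k, v k • sr k := by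
          funext k
          rw [Finset.sum_apply, Finset.sum_eq_single k (fun b _ hb => by
            rw [Pi.smul_apply, sr_ne hb.symm, smul_zero]) (by simp), Pi.smul_apply, sr_self, smul_eq_mul, mul_one]
        rw [h6, map_sum]
        refine Finset.sum_nonpos fun k _ => ?_
        rw [map_smul]
        by_cases hk : k ∈ J
        · exact smul_nonpos_of_nonneg_of_nonpos (hR.pos v hv k) (h5 k hk)
        · rw [hz k hk, zero_smul]
      have h7 : rep cs h (wJ cs J) v = 0 := le_antisymm h4 (hR.pos _ h3)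
      exact hR.ne (h7 ▸ h3)
  rw [← h1, card_inv R hR hwt hq, inv_inv, h2]

end Count

/-! ### Bit masks -/

/-- the bit mask of a predicate on `Fin k` -/
def msk {k : ℕ} (f : Fin k → Bool) : ℕ := Nat.ofBits f

theorem testBit_msk {k : ℕ} (f : Fin k → Bool) (i : Fin k) : (msk f).testBit i = f i :=
  Nat.testBit_ofBits_lt f i i.2

theorem msk_lt {k : ℕ} (f : Fin k → Bool) : msk f < 2 ^ k := Nat.ofBits_lt_two_pow f

/-- the support of a vector -/
def supp {k : ℕ} (v : Fin k → ℤ) : ℕ := msk fun i => decide (v i ≠ 0)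

/-- the mask of a set -/
def mJ {k : ℕ} (J : Finset (Fin k)) : ℕ := msk fun i => decide (i ∈ J)

theorem supp_land {k : ℕ} (v : Fin k → ℤ) (J : Finset (Fin k)) :
    (supp v &&& mJ J = supp v) ↔ ∀ i, i ∉ (J : Set (Fin k)) → v i = 0 := by
  constructor
  · intro h i hi
    by_contra hv
    have h1 := congrArg (fun m => Nat.testBit m i) h
    simp only [Nat.testBit_land, supp, mJ, testBit_msk] at h1
    simp [hv] at h1
    exact hi h1
  · intro h
    apply Nat.eq_of_testBit_eq
    intro j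
    rw [Nat.testBit_land]
    by_cases hj : j < k
    · have h1 := testBit_msk (fun i => decide (v i ≠ 0)) ⟨j, hj⟩
      have h2 := testBit_msk (fun i => decide (i ∈ J)) ⟨j, hj⟩
      simp only at h1 h2
      simp only [supp, mJ]
      rw [h1, h2]
      by_cases h3 : (⟨j, hj⟩ : Fin k) ∈ J
      · simp [h3]
      · have := h ⟨j, hj⟩ (by simpa using h3)
        simp [this]
    · have h1 : (supp v).testBit j = false :=
        Nat.testBit_lt_two_pow (lt_of_lt_of_le (msk_lt _) (Nat.pow_le_pow_right two_pos (not_lt.1 hj)))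
      rw [h1, Bool.false_and]

theorem mJ_inj {k : ℕ} {J J' : Finset (Fin k)} (h : mJ J = mJ J') : J = J' := by
  ext i
  have h1 := congrArg (fun m => Nat.testBit m i) h
  simp only [mJ, testBit_msk] at h1
  simpa using h1

/-- the number of bits -/
def pc (k m : ℕ) : ℕ := ((List.finRange k).filter fun i : Fin k => m.testBit i).length

theorem pc_mJ {k : ℕ} (J : Finset (Fin k)) : pc k (mJ J) = J.card := by
  have h1 : J = ((List.finRange k).filter fun i : Fin k => (mJ J).testBit i).toFinset := by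
    ext i
    simp [mJ, testBit_msk]
  unfold pc
  conv_rhs => rw [h1]
  rw [List.toFinset_card_of_nodup ((List.nodup_finRange k).filter _)]

/-- the exponent of `|U_J|`, from the table of supports and lengths -/
def NN (Tb : List (ℕ × ℕ)) (m : ℕ) : ℕ := ((Tb.filter fun a => a.1 &&& m == a.1).map Prod.snd).sum

/-- the arithmetic condition -/
def okB (d N m : ℕ) : Bool :=
  if m % 2 = 0 then decide (¬ d ∣ N) else (decide (¬ d ∣ 2 * N) || decide (d ∣ N))

/-- the check: all masks except `0`, the full mask and those of `bad` -/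
def chk (k d : ℕ) (Tb : List (ℕ × ℕ)) (bad : List ℕ) : Bool :=
  (List.range (2 ^ k)).all fun m => m == 0 || m == 2 ^ k - 1 || bad.contains m || okB d (NN Tb m) (pc k m)

theorem not_dvd_of_okB {q d u N : ℕ} (hq : 2 ≤ q) (hu : H436.Prim q d u) (hd : 2 ≤ d) {m : ℕ} (h : okB d N m = true) :
    ¬ (u : ℤ) ∣ ((q ^ N : ℕ) : ℤ) - (-1) ^ m := by
  unfold okB at h
  have hpos : 1 ≤ q ^ N := Nat.one_le_pow _ _ (by omega)
  split_ifs at h with h0
  · rw [Even.neg_one_pow (Nat.even_iff.2 h0)]
    intro h1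
    have h2 : u ∣ q ^ N - 1 := by
      have e : ((q ^ N : ℕ) : ℤ) - 1 = ((q ^ N - 1 : ℕ) : ℤ) := by push_cast [Nat.cast_sub hpos]; rfl
      rw [e] at h1
      exact_mod_cast h1
    exact (of_decide_eq_true h) ((hu.dvd_iff N).1 h2)
  · rw [Odd.neg_one_pow (Nat.odd_iff.2 (by omega))]
    intro h1
    have h2 : u ∣ q ^ N + 1 := by
      have e : ((q ^ N : ℕ) : ℤ) - -1 = ((q ^ N + 1 : ℕ) : ℤ) := by push_cast; ring
      rw [e] at h1
      exact_mod_cast h1
    rw [Bool.or_eq_true] at h
    rcases h with h | h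
    · exact (hu.not_dvd_add (of_decide_eq_true h)) h2
    · have h3 := hu.dvd (of_decide_eq_true h)
      have h4 : u ∣ 2 := by
        have := (Nat.dvd_sub h2 h3)
        have e : q ^ N + 1 - (q ^ N - 1) = 2 := by omega
        rwa [e] at this
      have h5 := hu.odd hd
      have h6 := Nat.le_of_dvd two_pos h4
      have h7 := hu.prime.two_le
      obtain rfl : u = 2 := by omega
      omega

section Main

variable {k : ℕ} {W Y : Type*} [Group W] [Group Y] {M : CoxeterMatrix (Fin k)}
  {cs : CoxeterSystem M W} {A : Fin k → Fin k → ℤ} {h : IsCartan M A} {p : ℕ} {T : Subgroup Y} {n : Fin k → Y}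
  {X : (Fin k → ℤ) → Subgroup Y}

/-- **`SQ` from a root group datum.** -/
theorem sq_of_rgd [Finite W] [Finite Y] [Fact p.Prime] (R : RGD cs h p T n X) (hk : 2 ≤ k)
    (hG : Nodes.RGDLib.G1 cs h X = ⊤) (hC : CommGen cs h X) (hM : Conn M)
    {L : List (Fin k → ℤ)} (hR : PosRoots A L.toFinset) (hN : L.Nodup) {len : (Fin k → ℤ) → ℕ}
    (hlen : ∀ i, ∀ v ∈ L, v ≠ Pi.single i 1 → len (refl A i v) = len v)
    {q d u : ℕ} (hq2 : 2 ≤ q) (hpq : p ∣ q) (hq : ∀ i, Nat.card (X (sr i)) = q ^ len (Pi.single i 1))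
    (hu : H436.Prim q d u) (hd : 2 ≤ d) (hT : ¬ u ∣ Nat.card T) (hY : u ∣ Nat.card Y)
    {Tb : List (ℕ × ℕ)} (hTb : (L.map fun v => (supp v, len v)) = Tb) {bad : List ℕ}
    (hchk : chk k d Tb bad = true)
    (hbad : ∀ J : Finset (Fin k), mJ J ∈ bad →
      ∃ J₁ : Finset (Fin k), J₁ ⊆ J ∧ J₁.Nonempty ∧ J₁ ≠ J ∧ ∀ a ∈ J₁, ∀ b ∈ J, b ∉ J₁ → M a b = 2) : SQ Y := by
  have hup : u ≠ p := by
    rintro rfl
    exact hu.not_dvd hpq
  have : Nontrivial (Fin k) := by
    obtain ⟨l, rfl⟩ : ∃ l, k = l + 2 := ⟨k - 2, by omega⟩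
    infer_instance
  intro P hP hsq
  left
  refine H396.Crit.der_of_rgd R hG hC hM hu.prime hup hT hY ?_ P hP ?_
  · intro J hJ hJ' hconn
    have hcard : Nat.card (RGD.Sup X (PosJ cs h (J : Set (Fin k)))) = q ^ NN Tb (mJ J) := by
      classical
      rw [card_UJ R hR (wt := fun v => q ^ len v) (fun i v hv hne => by
        rw [hlen i v (List.mem_toFinset.1 hv) hne]) hq (J : Set (Fin k))]
      have e1 : (L.toFinset.filter fun v => ∀ i, i ∉ (J : Set (Fin k)) → v i = 0) =
          (L.filter fun v => supp v &&& mJ J == supp v).toFinset := by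
        ext v
        rw [Finset.mem_filter, List.mem_toFinset, List.mem_toFinset, List.mem_filter, beq_iff_eq, supp_land]
      rw [e1, List.prod_toFinset _ (hN.filter _)]
      unfold NN
      rw [← hTb]
      have e2 : ∀ L' : List (Fin k → ℤ), (L'.map fun v => q ^ len v).prod = q ^ (L'.map len).sum := by
        intro L'
        induction L' with
        | nil => simp
        | cons a L' ih => rw [List.map_cons, List.prod_cons, ih, List.map_cons, List.sum_cons, pow_add]
      rw [e2, List.filter_map, List.map_map]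
      rfl
    rw [hcard, ← pc_mJ J]
    refine not_dvd_of_okB hq2 hu hd ?_
    have h1 := (List.all_eq_true.1 hchk) (mJ J) (List.mem_range.2 (msk_lt _))
    rw [Bool.or_eq_true, Bool.or_eq_true, Bool.or_eq_true] at h1
    rcases h1 with ((h1 | h1) | h1) | h1
    · exfalso
      rw [beq_iff_eq] at h1
      have h2 : mJ (∅ : Finset (Fin k)) = 0 := by
        apply Nat.eq_of_testBit_eq
        intro j
        rw [Nat.zero_testBit]
        by_cases hj : j < k
        · have h1 := testBit_msk (fun i : Fin k => decide (i ∈ (∅ : Finset (Fin k)))) ⟨j, hj⟩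
          simpa [mJ] using h1
        · exact Nat.testBit_lt_two_pow (lt_of_lt_of_le (msk_lt _) (Nat.pow_le_pow_right two_pos (not_lt.1 hj)))
      have h3 := mJ_inj (h1.trans h2.symm)
      rw [h3] at hJ
      exact Finset.not_nonempty_empty hJ
    · exfalso
      rw [beq_iff_eq] at h1
      apply hJ'
      ext i
      simp only [Finset.mem_univ, iff_true]
      have h2 : (2 ^ k - 1).testBit i = true := by
        rw [Nat.testBit_two_pow_sub_one]
        exact decide_eq_true i.2
      rw [← h1] at h2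
      simp only [mJ, testBit_msk] at h2
      simpa using h2
    · exfalso
      obtain ⟨J₁, h2, h3, h4, h5⟩ := hbad J (List.contains_iff_mem.1 h1)
      obtain ⟨a, ha, b, hb, hb1, hab⟩ := hconn J₁ h2 h3 h4
      exact hab (h5 a ha b hb hb1)
    · exact h1
  · intro h1
    have h2 := hsq p (by rwa [← sq])
    exact (Fact.out : p.Prime).one_lt.ne' (Nat.isUnit_iff.1 h2)

end Main

/-- a group of elements `t` with `t ^ (q ^ e - 1) = 1`, `d ∤ e`, has order prime to `u` -/
theorem not_dvd_of_pow {Y : Type*} [Group Y] [Finite Y] {T : Subgroup Y} {q d u e : ℕ} (hu : H436.Prim q d u)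
    (he : ¬ d ∣ e) (hT : ∀ t ∈ T, t ^ (q ^ e - 1) = 1) : ¬ u ∣ Nat.card T := by
  intro h1
  have := Fact.mk hu.prime
  obtain ⟨g, hg⟩ := exists_prime_orderOf_dvd_card' u h1
  have h2 : orderOf g ∣ q ^ e - 1 := by
    apply orderOf_dvd_of_pow_eq_one
    apply Subtype.ext
    rw [SubgroupClass.coe_pow]
    exact hT g g.2
  rw [hg] at h2
  exact he ((hu.dvd_iff e).1 h2)

end Cfsg.Agent.H138.SqBase
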