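import Cfsg.Agent.BpExc.TorChev

/-!
# The centraliser of `e * u`, `e` generic in the kernel of a simple root (helper138, for S4938)

`R` a root group datum with coordinates, `e ∈ T`, `f` a functional on the root lattice with `f (sr j₀) = 0`,
`f (sr j) > 0` for `j ≠ j₀`, such that `χ a e = 1 → f a = 0` and `χ (w a) e = χ a e → f (w a) = f a`. Then the
elements commuting with `e` and with a nontrivial element of `X (sr j₀)` are of the form `v * t`, `v ∈ X (sr j₀)`,
`t ∈ T`, `χ (sr j₀) t = 1`.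
-/

set_option autoImplicit false
set_option linter.unusedSectionVars false

namespace Cfsg.Agent.H138.XCen

open CoxeterSystem Cfsg.Agent.ChevalleyStructure.CoxeterGeom Cfsg.Agent.Tits.Roots Cfsg.Agent.Tits.Core
  Cfsg.Agent.Tits.RootComb Cfsg.Agent.Tits.Exchange Cfsg.Agent.Nodes.Reps Cfsg.Agent.Nodes.BNOf
  Cfsg.Agent.Nodes.NormalForm Cfsg.Agent.Nodes.Bruhat
open Cfsg.Agent.KFacts.RgdField Cfsg.Agent.BpExc.TorCent

section Fun

variable {I W : Type*} [Fintype I] [DecidableEq I] [Group W] {M : CoxeterMatrix I}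
  {cs : CoxeterSystem M W} {A : I → I → ℤ} {h : IsCartan M A}

theorem fun_eq_sum (f : (I → ℤ) →+ ℤ) (x : I → ℤ) : f x = ∑ k, x k * f (sr k) := by
  have h4 : x = ∑ k, x k • (sr k : I → ℤ) := by
    funext j
    rw [Finset.sum_apply]
    simp only [Pi.smul_apply, smul_eq_mul]
    rw [Finset.sum_eq_single j]
    · rw [sr_self, mul_one]
    · intro k _ hk
      rw [sr_ne (Ne.symm hk), mul_zero]
    · intro hj
      exact absurd (Finset.mem_univ j) hj
  conv_lhs => rw [h4]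
  rw [map_sum]
  exact Finset.sum_congr rfl fun k _ => by rw [map_zsmul, smul_eq_mul]

variable {j₀ : I} {f : (I → ℤ) →+ ℤ} (h0 : f (sr j₀) = 0) (hpos : ∀ j, j ≠ j₀ → 0 < f (sr j))

include h0 hpos

/-- positive roots in the kernel of `f` -/
theorem eq_sr_of_fun {a : I → ℤ} (ha : IsRoot cs h a) (ha0 : 0 ≤ a) (hf : f a = 0) : a = sr j₀ := by
  refine ha.eq_sr ha0 j₀ fun k hk => ?_
  rw [fun_eq_sum] at hf
  have h1 : ∀ i ∈ Finset.univ, 0 ≤ a i * f (sr i) := by
    intro i _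
    by_cases hi : i = j₀
    · rw [hi, h0, mul_zero]
    · exact mul_nonneg (ha0 i) (hpos i hi).le
  have h2 := (Finset.sum_eq_zero_iff_of_nonneg h1).1 hf k (Finset.mem_univ k)
  rcases mul_eq_zero.1 h2 with h3 | h3
  · exact h3
  · exact absurd h3 (hpos k hk).ne'

/-- the stabiliser of `f` in `W` -/
theorem stab_fun {w : W} (hw : ∀ a, IsRoot cs h a → f (rep cs h w a) = f a) : w = 1 ∨ w = cs.simple j₀ := by
  have key : ∀ w : W, (∀ a, IsRoot cs h a → f (rep cs h w a) = f a) → 0 ≤ rep cs h w (sr j₀) → w = 1 := by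
    intro w hw hp
    by_contra hne
    obtain ⟨i, hi⟩ := cs.exists_rightDescent_of_ne_one hne
    have hneg : rep cs h w (sr i) ≤ 0 := nonpos_of_lt cs h _ i hi
    by_cases hij : i = j₀
    · subst hij
      exact ((isRoot_sr cs h i).act w).not_pos_neg hp hneg
    · have h1 := hw _ (isRoot_sr cs h i)
      have h2 : f (rep cs h w (sr i)) ≤ 0 := by
        rw [fun_eq_sum]
        refine Finset.sum_nonpos fun k _ => ?_
        by_cases hk : k = j₀
        · rw [hk, h0, mul_zero]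
        · exact mul_nonpos_of_nonpos_of_nonneg (hneg k) (hpos k hk).le
      rw [h1] at h2
      exact absurd (hpos i hij) (not_lt.2 h2)
  have hsimp : ∀ x : I → ℤ, f (rep cs h (cs.simple j₀) x) = f x := by
    intro x
    rw [rep_simple_eq, map_sub, map_zsmul, h0, smul_zero, sub_zero]
  rcases ((isRoot_sr cs h j₀).act w).pos_or_neg with h1 | h1
  · exact Or.inl (key w hw h1)
  · right
    have h2 : w * cs.simple j₀ = 1 := by
      refine key _ (fun a ha => ?_) ?_
      · rw [rep_mul_apply, hw _ (ha.act _), hsimp]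
      · rw [rep_mul_apply, rep_simple_sr, map_neg]
        exact neg_nonneg.2 h1
    have h3 := eq_inv_of_mul_eq_one_left h2
    rwa [cs.inv_simple] at h3

end Fun

section Main

variable {I W Y : Type*} [Fintype I] [DecidableEq I] [Group W] [Group Y] {M : CoxeterMatrix I}
  {cs : CoxeterSystem M W} {A : I → I → ℤ} {h : IsCartan M A} {p : ℕ} {T : Subgroup Y} {n : I → Y}
  {X : (I → ℤ) → Subgroup Y} {F : Type*} [Field F] {xx : (I → ℤ) → F → Y} {χ : (I → ℤ) → Y → F}

/-- opposite simple root groups meet trivially -/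
theorem inf_neg (R : RGD cs h p T n X) [Finite W] (i : I) : X (sr i) ⊓ X (-sr i) = ⊥ := by
  rw [eq_bot_iff]
  rintro u ⟨h1, h2⟩
  rw [Subgroup.mem_bot]
  by_contra hu
  obtain ⟨a, ha, t, ht, b, hb, e⟩ := R.rk1 i u h2 hu
  have hX : X (sr i) ≤ RGD.B cs h T X := RGD.X_le_B (isRoot_sr cs h i) (sr_nonneg i)
  have h3 : n i ∈ RGD.B cs h T X := by
    have h4 : n i = (a * t)⁻¹ * u * b⁻¹ := by rw [e]; group
    rw [h4]
    exact mul_mem (mul_mem (inv_mem (mul_mem (hX ha) (RGD.T_le_B ht))) (hX h1)) (inv_mem (hX hb))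
  have h5 := R.eq_one_of_mem_B (rp_simple cs R.nsys i) h3
  have h6 := cs.length_simple i
  rw [h5, cs.length_one] at h6
  exact absurd h6 (by norm_num)

variable (R : RGD cs h p T n X) (C : Coords cs h T n X xx χ)

include R C in
/-- **The centraliser of `e` and of `u ∈ X (sr j₀)`.** -/
theorem exists_of_comm [Finite W] {j₀ : I} {f : (I → ℤ) →+ ℤ}
    (h0 : f (sr j₀) = 0) (hpos : ∀ j, j ≠ j₀ → 0 < f (sr j)) {e : Y} (he : e ∈ T)
    (hf1 : ∀ a, IsRoot cs h a → χ a e = 1 → f a = 0)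
    (hf2 : ∀ a, IsRoot cs h a → ∀ w, χ (rep cs h w a) e = χ a e → f (rep cs h w a) = f a)
    {u : Y} (hu : u ∈ X (sr j₀)) (hu1 : u ≠ 1) {g : Y} (hg : g ∈ GG cs h T X) (hge : g * e = e * g)
    (hgu : g * u = u * g) : ∃ v ∈ X (sr j₀), ∃ t ∈ T, χ (sr j₀) t = 1 ∧ g = v * t := by
  have hj := isRoot_sr cs h j₀
  have CX := C.coord _ hj
  have hab : ∀ a ∈ X (sr j₀), ∀ b ∈ X (sr j₀), a * b = b * a := by
    intro a ha b hb
    obtain ⟨s, rfl⟩ := (CX.mem a).1 ha
    obtain ⟨t, rfl⟩ := (CX.mem b).1 hb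
    rw [← CX.add, ← CX.add, add_comm]
  obtain ⟨u₁, hu₁, w, k, hk, hkc, v₁, hv₁, rfl⟩ := mem_centralizer R (S := {e}) (Set.singleton_subset_iff.2 he) hg
    (Subgroup.mem_centralizer_singleton_iff.2 hge)
  have hsup : RGD.Sup (fun x => X x ⊓ Subgroup.centralizer {e}) (RGD.Pos cs h) ≤ X (sr j₀) := by
    refine RGD.Sup_le fun a ha => ?_
    rintro y ⟨hy, hc⟩
    by_cases h1 : y = 1
    · rw [h1]; exact one_mem _
    · have h2 := mem_Sx_of_centralizer C he ha.1 hy h1 hc
      rw [← eq_sr_of_fun h0 hpos ha.1 ha.2 (hf1 a ha.1 h2.2)]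
      exact hy
  have hu₁' := hsup hu₁
  have hv₁' := hsup hv₁
  have hw : ∀ a, IsRoot cs h a → f (rep cs h w a) = f a := fun a ha =>
    hf2 a ha w (chi_of_centralizer R C he hk hkc ha)
  rcases stab_fun h0 hpos hw with rfl | rfl
  · have hkT : k ∈ T := hk.mem_of_one
    have hXn : k * v₁ * k⁻¹ ∈ X (sr j₀) := by
      have h1 := R.tor _ hj k hkT
      rw [← h1]
      exact conj_mem_cj.2 hv₁'
    refine ⟨u₁ * (k * v₁ * k⁻¹), mul_mem hu₁' hXn, k, hkT, ?_, by group⟩
    -- `k` commutes with `u`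
    have h2 : k * u = u * k := by
      have h3 : u₁ * (k * v₁ * k⁻¹) * (k * u) = u₁ * (k * v₁ * k⁻¹) * (u * k) := by
        calc u₁ * (k * v₁ * k⁻¹) * (k * u) = u₁ * k * (v₁ * u) := by group
          _ = u₁ * k * (u * v₁) := by rw [hab _ hv₁' _ hu]
          _ = u₁ * k * u * v₁ := by group
          _ = (u₁ * k * u * k⁻¹) * (k * v₁ * k⁻¹) * k := by group
          _ = (u₁ * (k * u * k⁻¹)) * (k * v₁ * k⁻¹) * k := by group
          _ = (u₁ * (k * v₁ * k⁻¹)) * (k * u * k⁻¹) * k := by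
              have h4 : k * u * k⁻¹ ∈ X (sr j₀) := by
                rw [← R.tor _ hj k hkT]
                exact conj_mem_cj.2 hu
              rw [mul_assoc u₁, hab _ h4 _ hXn, ← mul_assoc]
          _ = u₁ * k * v₁ * u := by
              have h5 : v₁ * u = u * v₁ := hab _ hv₁' _ hu
              calc (u₁ * (k * v₁ * k⁻¹)) * (k * u * k⁻¹) * k = u₁ * k * (v₁ * u) := by group
                _ = u₁ * k * v₁ * u := by group
          _ = u * (u₁ * k * v₁) := by rw [hgu]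
          _ = u * (u₁ * (k * v₁ * k⁻¹)) * k := by group
          _ = u₁ * (k * v₁ * k⁻¹) * u * k := by rw [hab _ hu _ (mul_mem hu₁' hXn)]
          _ = u₁ * (k * v₁ * k⁻¹) * (u * k) := by group
      exact mul_left_cancel h3
    obtain ⟨s, rfl⟩ := (CX.mem u).1 hu
    have hs : s ≠ 0 := by
      rintro rfl
      exact hu1 CX.zero
    have h3 := CX.act k hkT s
    rw [h2, mul_inv_cancel_right] at h3
    have h4 := CX.inj h3
    exact (mul_eq_right₀ hs).1 h4.symm
  · exfalso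
    have h1 : k * u * k⁻¹ ∈ X (-sr j₀) := by
      have := R.conj_mem hk hj hu
      rwa [rep_simple_sr] at this
    have h2 : k * u * k⁻¹ = u₁⁻¹ * u * u₁ := by
      have h3 : u₁ * (k * u * k⁻¹) * u₁⁻¹ = u := by
        calc u₁ * (k * u * k⁻¹) * u₁⁻¹ = u₁ * k * (v₁ * u * v₁⁻¹) * (u₁ * k)⁻¹ := by
              rw [hab _ hv₁' _ hu]; group
          _ = (u₁ * k * v₁ * u) * (u₁ * k * v₁)⁻¹ := by group
          _ = u := by rw [hgu]; group
      calc k * u * k⁻¹ = u₁⁻¹ * (u₁ * (k * u * k⁻¹) * u₁⁻¹) * u₁ := by group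
        _ = u₁⁻¹ * u * u₁ := by rw [h3]
    have h4 : u₁⁻¹ * u * u₁ ∈ X (sr j₀) := mul_mem (mul_mem (inv_mem hu₁') hu) hu₁'
    have h3 : k * u * k⁻¹ ∈ X (sr j₀) ⊓ X (-sr j₀) := ⟨by
      rw [h2]
      exact h4, h1⟩
    rw [inf_neg R, Subgroup.mem_bot, mul_inv_eq_one, mul_eq_left] at h3
    exact hu1 h3

end Main

end Cfsg.Agent.H138.XCen
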