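import Cfsg.Agent.H138.XTor
import Cfsg.Agent.H730.PairRow

/-!
# `XRow` for the groups `D.group F` (helper138, for S4938)

`x = e * u`, `e` the element of the torus given by a coweight `c` (zero on `α_{j₀}`, positive on the other fundamental
roots) and a generator of `Fˣ`, `u` a root element of `α_{j₀}`.
-/

set_option autoImplicit false
set_option linter.unusedSectionVars false

namespace Cfsg.Agent.H138.XChev

open CoxeterSystem Subgroup Cfsg Cfsg.Lie Cfsg.Lie.ChevalleyDatum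
open Cfsg.Agent.ChevalleyStructure Cfsg.Agent.ChevalleyStructure.Elts Cfsg.Agent.ChevalleyStructure.CoxeterGeom
  Cfsg.Agent.ChevalleyStructure.CoxeterGeomTypes Cfsg.Agent.ChevalleyStructure.NPerm
open Cfsg.Agent.Tits.Roots Cfsg.Agent.Tits.Core Cfsg.Agent.Nodes.Reps Cfsg.Agent.Nodes.BNOf
  Cfsg.Agent.Nodes.RGDChev Cfsg.Agent.Nodes.Bruhat
open Cfsg.Agent.KFacts.RgdField Cfsg.Agent.KFacts.RgdChevCoord Cfsg.Agent.BpExc.TorCent Cfsg.Agent.BpExc.TorChev
open Cfsg.Agent.BpExc.Tow Cfsg.Agent.BpExc.TowChev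
open Cfsg.Agent.H378.TorDual Cfsg.Agent.H378.TorChar Cfsg.Agent.GpExc.Field
open Cfsg.Agent.H730.Pair Cfsg.Agent.H967.CopMat Cfsg.Agent.H967.CopRow Cfsg.Agent.H138.XTor

universe u

section Arith

variable {F : Type u} [Field F] [Finite F]

theorem zpow_eq_one {b : Fˣ} (hb : ∀ x : Fˣ, x ∈ zpowers b) {m : ℕ} (hm : m + 1 < Nat.card F) {x : ℤ}
    (hx : |x| ≤ m) (h : b ^ x = 1) : x = 0 := by
  have hob : orderOf b = Nat.card F - 1 := by rw [orderOf_eq_card_of_forall_mem_zpowers hb, Nat.card_units]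
  have h1 := orderOf_dvd_iff_zpow_eq_one.2 h
  refine Int.eq_zero_of_abs_lt_dvd h1 ?_
  rw [hob]
  have : ((Nat.card F - 1 : ℕ) : ℤ) = (Nat.card F : ℤ) - 1 := by
    rw [Nat.cast_sub (by omega), Nat.cast_one]
  omega

end Arith

section Cop

variable {D : ChevalleyDatum} {F : Type u} [Field F] [Finite F]

/-- The size of the field, if there is a coprime automorphism. -/
theorem lt_card [Finite ↥(D.group F)] (R : Row (D.group F)) (hc : HasCop ↥(D.group F)) {t₀ : ℕ}
    (hsm : ∀ p, p.Prime → p < t₀ → p ∣ Nat.card ↥(D.group F)) : 2 ^ t₀ ≤ Nat.card F := by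
  obtain ⟨t, htp, htd, α, hα⟩ := hc
  obtain ⟨e', σ, -, h2⟩ := R.exists_equiv_one (MulEquiv.refl ↥(D.group F)) α (by
    rw [hα]
    exact (Nat.Prime.coprime_iff_not_dvd htp).2 htd)
  rw [card_Fx σ, h2, hα]
  have ht0 : t₀ ≤ t := by
    by_contra h
    exact htd (hsm t htp (by omega))
  have h3 : 2 ≤ Nat.card ↥(Fx σ) := Finite.one_lt_card
  calc 2 ^ t₀ ≤ 2 ^ t := Nat.pow_le_pow_right two_pos ht0
    _ ≤ Nat.card ↥(Fx σ) ^ t := Nat.pow_le_pow_left h3 t

end Cop

variable {D : ChevalleyDatum} {l : ℕ} {M : CoxeterMatrix (Fin l)} (hp : IsType D l M) {F : Type u} [Field F]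

theorem xc_pow [Finite F] {W : Type*} [Group W] (cs : CoxeterSystem M W) (r : ℕ) [Fact r.Prime] [CharP F r]
    {a : Fin l → ℤ} (ha : IsRoot cs hp.isCartan a) (n : ℕ) : xc (K := F) hp a 1 ^ n = xc hp a (n : F) := by
  have CX := (coords (K := F) hp cs r).coord a ha
  induction n with
  | zero => rw [pow_zero, Nat.cast_zero, CX.zero]
  | succ n ih => rw [pow_succ, ih, Nat.cast_succ, CX.add]

theorem orderOf_xc [Finite F] {W : Type*} [Group W] (cs : CoxeterSystem M W) (r : ℕ) [Fact r.Prime] [CharP F r]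
    {a : Fin l → ℤ} (ha : IsRoot cs hp.isCartan a) : orderOf (xc (K := F) hp a 1) = r := by
  have CX := (coords (K := F) hp cs r).coord a ha
  refine orderOf_eq_prime ?_ ?_
  · rw [xc_pow hp cs r ha, CharP.cast_eq_zero, CX.zero]
  · intro h
    rw [← CX.zero] at h
    exact one_ne_zero (CX.inj h)

theorem card_XX [Finite F] {W : Type*} [Group W] (cs : CoxeterSystem M W) (r : ℕ) [Fact r.Prime] [CharP F r]
    {a : Fin l → ℤ} (ha : IsRoot cs hp.isCartan a) : Nat.card ↥(XX D l F a) = Nat.card F := by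
  have CX := (coords (K := F) hp cs r).coord a ha
  refine (Nat.card_congr (Equiv.ofBijective (fun t : F => (⟨xc hp a t, (CX.mem _).2 ⟨t, rfl⟩⟩ : ↥(XX D l F a)))
    ⟨?_, ?_⟩)).symm
  · intro s t h
    exact CX.inj (congrArg Subtype.val h)
  · rintro ⟨y, hy⟩
    obtain ⟨t, rfl⟩ := (CX.mem y).1 hy
    exact ⟨t, rfl⟩

include hp in
/-- **`XRow` for `D.group F`.** -/
theorem xRow [Finite F] {r : ℕ} [Fact r.Prime] [CharP F r] [Finite ↥(D.group F)] (R : Row (D.group F))
    (c : Fin l → ℤ) (j₀ j₁ i₁ : Fin l) (m t₀ k : ℕ) (hj : D.cartan j₁ (D.simple j₀) = -1)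
    (h0 : ∑ j : Fin l, c j * D.cartan j (D.simple j₀) = 0)
    (hpos : ∀ i, i ≠ j₀ → 0 < ∑ j : Fin l, c j * D.cartan j (D.simple i))
    (hm : ∀ s < D.nroots, |∑ j : Fin l, c j * D.cartan j s| ≤ m)
    (hi : ∑ j : Fin l, c j * D.cartan j (D.simple i₁) = k) (hk0 : 0 < k) (hkt : k < t₀) (ht : 2 * m + 1 < 2 ^ t₀)
    (hsm : ∀ p, p.Prime → p < t₀ → p ∣ Nat.card ↥(D.group F))
    (hqq : Nat.card F * Nat.card F ∣ Nat.card ↥(D.group F)) : XRow r ↥(D.group F) := by
  intro hcop
  have hq := lt_card R hcop hsm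
  let cs := M.toCoxeterSystem
  have hW : Finite M.Group := finite_W hp cs
  have RG := rgd (K := F) hp cs r
  have C := coords (K := F) hp cs r
  have hjr := isRoot_sr cs hp.isCartan j₀
  have CX := C.coord _ hjr
  obtain ⟨b, hb⟩ := IsCyclic.exists_generator (α := Fˣ)
  -- the functional
  have hfsr : ∀ i, fn D l c (sr i) = ∑ j : Fin l, c j * D.cartan j (D.simple i) := fn_sr D l c
  have hfm : ∀ a, IsRoot cs hp.isCartan a → |fn D l c a| ≤ m := by
    intro a ha
    obtain ⟨s, hs, rfl⟩ := (isRoot_iff hp cs a).1 ha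
    rw [fn_apply, Finset.sum_congr rfl fun j _ => by rw [pairing_vec hp j hs]]
    exact hm s hs
  set e : ↥(D.group F) := (tH hp c b).1 with he
  have heT : e ∈ TT D F := (tH hp c b).2
  set u : ↥(D.group F) := xc hp (sr j₀) 1 with hu
  have huX : u ∈ XX D l F (sr j₀) := (CX.mem _).2 ⟨1, rfl⟩
  have hou : orderOf u = r := orderOf_xc hp cs r hjr
  have hu1 : u ≠ 1 := by
    intro h
    rw [h, orderOf_one] at hou
    exact (Fact.out : r.Prime).one_lt.ne hou
  have hch : ∀ a, IsRoot cs hp.isCartan a → ch hp a e = ((b ^ fn D l c a : Fˣ) : F) := fun a ha =>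
    ch_tH hp cs r c b ha
  have hf1 : ∀ a, IsRoot cs hp.isCartan a → ch hp a e = 1 → fn D l c a = 0 := by
    intro a ha h
    rw [hch a ha] at h
    exact zpow_eq_one hb (m := m) (by omega) (hfm a ha) (Units.ext h)
  have hf2 : ∀ a, IsRoot cs hp.isCartan a → ∀ w, ch hp (rep cs hp.isCartan w a) e = ch hp a e →
      fn D l c (rep cs hp.isCartan w a) = fn D l c a := by
    intro a ha w h
    rw [hch a ha, hch _ (ha.act w)] at h
    have h1 := hfm a ha
    have h2 := hfm _ (ha.act w)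
    have h3 : fn D l c (rep cs hp.isCartan w a) - fn D l c a = 0 := by
      refine zpow_eq_one hb (m := 2 * m) (by omega) ?_ ?_
      · have h4 := abs_sub (fn D l c (rep cs hp.isCartan w a)) (fn D l c a)
        push_cast
        linarith
      · rw [zpow_sub, Units.ext h, mul_inv_cancel]
    exact sub_eq_zero.1 h3
  have hcomm : Commute e u := by
    have h1 := CX.act e heT 1
    rw [hch _ hjr, hfsr, h0, zpow_zero, Units.val_one, one_mul] at h1
    exact mul_inv_eq_iff_eq_mul.1 h1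
  have hcop' : (orderOf e).Coprime (orderOf u) := by
    rw [hou]
    have h1 : orderOf e ∣ Nat.card F - 1 := orderOf_dvd_of_pow_eq_one (TT_pow hp heT)
    refine Nat.Coprime.coprime_dvd_left h1 ?_
    obtain ⟨p', hp'f, hp'c, n, hn, hcard⟩ := H378.SmallTor.exists_charP F
    have hrp : p' = r := CharP.eq F hp'c ‹CharP F r›
    rw [hrp] at hcard
    rw [Nat.coprime_comm, Nat.Prime.coprime_iff_not_dvd (Fact.out : r.Prime)]
    intro h2
    have h3 : r ∣ Nat.card F := by
      rw [hcard]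
      exact dvd_pow_self _ hn.ne'
    have h4 := Nat.dvd_sub h3 h2
    have h5 : Nat.card F - (Nat.card F - 1) = 1 := by
      have := Finite.one_lt_card (α := F)
      omega
    rw [h5] at h4
    exact (Fact.out : r.Prime).one_lt.ne' (Nat.dvd_one.1 h4)
  have heu : e ∈ zpowers (e * u) := mem_zpowers_mul hcomm hcop'
  have hueu : u ∈ zpowers (e * u) := by
    rw [hcomm.eq]
    exact mem_zpowers_mul hcomm.symm hcop'.symm
  have hgen : Gen ↥(D.group F) e := by
    refine Gen.of_hom (fieldAut R.stab) (ConjIn.of_row R) ((TT D F).subtype.comp (tH hp c)) ?_ (c := k) hk0 ?_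
      (fun p hp' hpk => hsm p hp' (by omega)) hb
    · intro τ v
      show fieldAut R.stab τ (tH hp c v).1 = (tH hp c (Units.map (τ : F →* F) v)).1
      have h1 : fieldAut R.stab τ (tH hp c v).1 = emb hp.inList (τ : F →+* F) (tH hp c v).1 := by
        apply Subtype.ext
        apply Units.ext
        rfl
      rw [h1, emb_tH]
      rfl
    · intro v hv
      have h1 : tH hp c v = 1 := Subtype.ext hv
      have h2 := tH_ker hp h1 i₁
      rw [hfsr, hi, zpow_natCast] at h2
      exact h2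
  refine ⟨e * u, ?_, hgen.mul hcomm hcop', ?_⟩
  · rw [← hou]
    exact orderOf_dvd_of_mem_zpowers hueu
  -- the centraliser
  have hT0c : ∀ t : ↥(TT D F), t ∈ (uch (k := F) hp j₀).ker ↔ ch hp (sr j₀) t.1 = 1 := by
    intro t
    rw [MonoidHom.mem_ker, ← coe_uch]
    exact Units.ext_iff
  have hcm : ∀ (v : ↥(XX D l F (sr j₀))) (t : ↥((uch (k := F) hp j₀).ker)),
      Commute ((XX D l F (sr j₀)).subtype v) (((TT D F).subtype.comp ((uch (k := F) hp j₀).ker).subtype) t) := by
    rintro ⟨v, hv⟩ ⟨t, ht⟩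
    obtain ⟨s, rfl⟩ := (CX.mem v).1 hv
    have h1 := CX.act t.1 t.2 s
    rw [(hT0c t).1 ht, one_mul] at h1
    exact (mul_inv_eq_iff_eq_mul.1 h1).symm
  let φ := MonoidHom.noncommCoprod (XX D l F (sr j₀)).subtype
    ((TT D F).subtype.comp ((uch (k := F) hp j₀).ker).subtype) hcm
  have hle : centralizer ({e * u} : Set ↥(D.group F)) ≤ φ.range := by
    intro g hg
    have hg' : g * (e * u) = (e * u) * g := (mem_centralizer_singleton_iff.1 hg)
    have hz : ∀ z ∈ zpowers (e * u), g * z = z * g := by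
      rintro z ⟨n, rfl⟩
      exact (Commute.zpow_right (show Commute g (e * u) from hg') n).eq
    obtain ⟨v, hv, t, ht, hct, rfl⟩ := XCen.exists_of_comm RG C (j₀ := j₀) (f := fn D l c) (by rw [hfsr]; exact h0)
      (fun j hj' => by rw [hfsr]; exact hpos j hj') heT hf1 hf2 huX hu1 (g := g)
      (by rw [GG_top hp cs]; exact mem_top _) (hz e heu) (hz u hueu)
    exact ⟨(⟨v, hv⟩, ⟨⟨t, ht⟩, (hT0c _).2 hct⟩), rfl⟩
  have hcard : Nat.card ↥(centralizer ({e * u} : Set ↥(D.group F))) ∣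
      Nat.card F * Nat.card ↥((uch (k := F) hp j₀).ker) := by
    refine (Subgroup.card_dvd_of_le hle).trans ((Subgroup.card_range_dvd φ).trans ?_)
    rw [Nat.card_prod, card_XX hp cs r hjr]
  intro p hpp hpd
  have hpow : ∀ g ∈ TT D F, g ^ (Nat.card F - 1) = 1 := fun g hg => TT_pow hp hg
  obtain ⟨n, hn1, hn2⟩ := exists_pow (m := 1) hpp (Finite.one_lt_card (α := F))
    (Nat.card_pos (α := ↥((uch (k := F) hp j₀).ker))) hqq
    (by rw [← card_tor hp hj]; exact Subgroup.card_subgroup_dvd_card _)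
    (by
      rw [mul_one]
      exact (Dvd.intro _ (card_tor hp hj).symm).trans (Subgroup.card_subgroup_dvd_card (TT D F)))
    (by
      intro h
      left
      have : Fact p.Prime := ⟨hpp⟩
      obtain ⟨g, hg⟩ := exists_prime_orderOf_dvd_card' p h
      rw [← hg]
      refine orderOf_dvd_of_pow_eq_one (Subtype.ext (Subtype.ext ?_))
      exact hpow _ g.1.2)
    (by
      rintro ⟨h1, -⟩
      exact hpp.one_lt.ne' (Nat.dvd_one.1 h1)) hpd
  exact dvd_index_of_not_dvd hpp hn1 fun h => hn2 (h.trans hcard)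

end Cfsg.Agent.H138.XChev
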